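/-
The wreath product of the dihedral group of order eight with a group of order two, as a decidable group,
and its identification with a Sylow 2-subgroup of the symmetric group on eight letters.
-/
import Mathlib

set_option autoImplicit false
set_option maxRecDepth 10000

namespace Cfsg.Agent.WreathEight

open Equiv

abbrev D8 : Type := DihedralGroup 4
abbrev C2 : Type := Multiplicative (ZMod 2)

/-- The automorphism attached to an involution. -/
def involHom {M : Type*} [Monoid M] (a : M) (ha : a * a = 1) : C2 →* M where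
  toFun x := if x = 1 then 1 else a
  map_one' := if_pos rfl
  map_mul' x y := by
    have key : ∀ x y : C2, (x = 1 ∧ x * y = y) ∨ (y = 1 ∧ x * y = x) ∨ (x ≠ 1 ∧ y ≠ 1 ∧ x * y = 1) := by
      decide
    rcases key x y with ⟨h, e⟩ | ⟨h, e⟩ | ⟨h, h', e⟩
    · rw [e, if_pos h, one_mul]
    · rw [e, if_pos h, mul_one]
    · rw [e, if_pos rfl, if_neg h, if_neg h', ha]

theorem involHom_gen {M : Type*} [Monoid M] (a : M) (ha : a * a = 1) :
    involHom a ha (Multiplicative.ofAdd 1) = a :=
  (if_neg (show ¬ (Multiplicative.ofAdd (1 : ZMod 2) = 1) by decide) :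
    (if Multiplicative.ofAdd (1 : ZMod 2) = 1 then (1 : M) else a) = a)

/-- The swap of the two factors. -/
def swapAut : MulAut (D8 × D8) := MulEquiv.prodComm

theorem swapAut_sq : swapAut * swapAut = 1 := rfl

/-- `D8 wr 2`. -/
abbrev W : Type := (D8 × D8) ⋊[involHom swapAut swapAut_sq] C2

def wA : W := SemidirectProduct.inl (DihedralGroup.sr 0, 1)
def wB : W := SemidirectProduct.inl (DihedralGroup.sr 1, 1)
def wA' : W := SemidirectProduct.inl (1, DihedralGroup.sr 0)
def wB' : W := SemidirectProduct.inl (1, DihedralGroup.sr 1)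
def wT : W := SemidirectProduct.inr (Multiplicative.ofAdd 1)
def wZ : W := SemidirectProduct.inl (DihedralGroup.r 2, DihedralGroup.r 2)
def wZ1 : W := SemidirectProduct.inl (DihedralGroup.r 2, 1)

instance : Fintype W := Fintype.ofEquiv _ SemidirectProduct.equivProd.symm

theorem card_W : Nat.card W = 128 := by
  rw [Nat.card_congr SemidirectProduct.equivProd, Nat.card_prod, Nat.card_prod,
    DihedralGroup.nat_card, Nat.card_eq_fintype_card, Fintype.card_multiplicative, ZMod.card]

/-- A homomorphism out of the dihedral group of order eight. -/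
def dihLift {K : Type*} [Group K] (X Y : K) (hX : X * X = 1) (hY : Y * Y = 1) (hXY : (X * Y) ^ 4 = 1) :
    D8 →* K where
  toFun g := match g with
    | DihedralGroup.r i => (X * Y) ^ i.val
    | DihedralGroup.sr i => X * (X * Y) ^ i.val
  map_one' := by
    show (X * Y) ^ (0 : ZMod 4).val = 1
    rw [ZMod.val_zero, pow_zero]
  map_mul' g h := by
    set R := X * Y with hR
    have hmod : ∀ i j : ℕ, i % 4 = j % 4 → R ^ i = R ^ j := fun i j h => by
      rw [← Nat.div_add_mod i 4, ← Nat.div_add_mod j 4, pow_add, pow_add, pow_mul, pow_mul, hXY, h]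
      simp
    have hadd : ∀ i j : ZMod 4, R ^ (i + j).val = R ^ i.val * R ^ j.val := fun i j => by
      rw [← pow_add]
      exact hmod _ _ (by rw [ZMod.val_add]; simp)
    have hflip : X * R * X = R⁻¹ := by
      rw [hR, mul_inv_rev, inv_eq_of_mul_eq_one_right hX, inv_eq_of_mul_eq_one_right hY]
      rw [← mul_assoc, hX, one_mul]
    clear_value R
    have hflipn : ∀ n : ℕ, R ^ n * X = X * (R ^ n)⁻¹ := fun n => by
      induction n with
      | zero => simp
      | succ n ih =>
        have h1 : R * X = X * R⁻¹ := by rw [← hflip, ← mul_assoc, ← mul_assoc, hX, one_mul]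
        calc R ^ (n + 1) * X = R ^ n * (R * X) := by rw [pow_succ, mul_assoc]
          _ = (R ^ n * X) * R⁻¹ := by rw [h1, mul_assoc]
          _ = X * ((R ^ n)⁻¹ * R⁻¹) := by rw [ih, mul_assoc]
          _ = X * (R ^ (n + 1))⁻¹ := by rw [pow_succ', mul_inv_rev]
    have hsub : ∀ i j : ZMod 4, R ^ (j - i).val = (R ^ i.val)⁻¹ * R ^ j.val := fun i j => by
      rw [eq_inv_mul_iff_mul_eq, ← hadd]
      simp
    rcases g with i | i <;> rcases h with j | j
    · rw [DihedralGroup.r_mul_r]; exact hadd i j
    · rw [DihedralGroup.r_mul_sr]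
      show X * R ^ (j - i).val = R ^ i.val * (X * R ^ j.val)
      rw [hsub, ← mul_assoc (R ^ i.val), hflipn, mul_assoc]
    · rw [DihedralGroup.sr_mul_r]
      show X * R ^ (i + j).val = X * R ^ i.val * R ^ j.val
      rw [hadd, mul_assoc]
    · rw [DihedralGroup.sr_mul_sr]
      show R ^ (j - i).val = X * R ^ i.val * (X * R ^ j.val)
      rw [hsub, mul_assoc X, ← mul_assoc (R ^ i.val), hflipn, ← mul_assoc X, ← mul_assoc X, hX, one_mul]

/-- Three involutions with the wreath relations give a homomorphism out of `W`. -/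
theorem exists_hom {K : Type*} [Group K] (X Y T : K) (hX : X * X = 1) (hY : Y * Y = 1) (hT : T * T = 1)
    (hXY : (X * Y) ^ 4 = 1) (h1 : Commute X (T * X * T)) (h2 : Commute X (T * Y * T))
    (h3 : Commute Y (T * X * T)) (h4 : Commute Y (T * Y * T)) :
    ∃ f : W →* K, f wA = X ∧ f wB = Y ∧ f wT = T := by
  have hTi : T⁻¹ = T := inv_eq_of_mul_eq_one_right hT
  let p := dihLift X Y hX hY hXY
  let p' : D8 →* K := (MulAut.conj T).toMonoidHom.comp p
  have gen : ∀ (g : D8), p g ∈ Subgroup.closure ({X, Y} : Set K) := fun g => by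
    have hXm : X ∈ Subgroup.closure ({X, Y} : Set K) := Subgroup.subset_closure (by simp)
    have hYm : Y ∈ Subgroup.closure ({X, Y} : Set K) := Subgroup.subset_closure (by simp)
    rcases g with i | i
    · exact pow_mem (mul_mem hXm hYm) _
    · exact mul_mem hXm (pow_mem (mul_mem hXm hYm) _)
  have key : ∀ g h, Commute (p g) (p' h) := fun g h => by
    have hp' : p' h = T * p h * T := by
      show T * p h * T⁻¹ = T * p h * T
      rw [hTi]
    rw [hp']
    have a : ∀ u ∈ Subgroup.closure ({X, Y} : Set K), Commute u (T * X * T) ∧ Commute u (T * Y * T) := by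
      intro u hu
      induction hu using Subgroup.closure_induction with
      | mem x hx =>
        rcases hx with rfl | rfl
        · exact ⟨h1, h2⟩
        · exact ⟨h3, h4⟩
      | one => exact ⟨Commute.one_left _, Commute.one_left _⟩
      | mul x y _ _ hx hy => exact ⟨hx.1.mul_left hy.1, hx.2.mul_left hy.2⟩
      | inv x _ hx => exact ⟨hx.1.inv_left, hx.2.inv_left⟩
    have b : ∀ v ∈ Subgroup.closure ({X, Y} : Set K), Commute (p g) (T * v * T) := by
      intro v hv
      induction hv using Subgroup.closure_induction with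
      | mem x hx =>
        rcases hx with rfl | rfl
        · exact (a _ (gen g)).1
        · exact (a _ (gen g)).2
      | one => simp [hT]
      | mul x y _ _ hx hy =>
        have e : T * (x * y) * T = (T * x * T) * (T * y * T) := by
          calc T * (x * y) * T = T * x * 1 * y * T := by group
            _ = T * x * (T * T) * y * T := by rw [hT]
            _ = (T * x * T) * (T * y * T) := by group
        rw [e]
        exact hx.mul_right hy
      | inv x _ hx =>
        have e : T * x⁻¹ * T = (T * x * T)⁻¹ := by rw [mul_inv_rev, mul_inv_rev, hTi, mul_assoc]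
        rw [e]
        exact hx.inv_right
    exact b _ (gen h)
  let pp : D8 × D8 →* K := p.noncommCoprod p' key
  let τ : C2 →* K := involHom T hT
  have compat : ∀ x : C2, pp.comp ((involHom swapAut swapAut_sq) x).toMonoidHom =
      (MulAut.conj (τ x)).toMonoidHom.comp pp := by
    intro x
    rcases (by decide : ∀ x : C2, x = 1 ∨ x = Multiplicative.ofAdd 1) x with rfl | rfl
    · ext g <;> simp
    · refine MonoidHom.ext fun u => ?_
      obtain ⟨g, h⟩ := u
      show pp ((involHom swapAut swapAut_sq) (Multiplicative.ofAdd 1) (g, h)) =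
        τ (Multiplicative.ofAdd 1) * pp (g, h) * (τ (Multiplicative.ofAdd 1))⁻¹
      rw [involHom_gen, show τ (Multiplicative.ofAdd 1) = T from involHom_gen T hT, hTi]
      show p h * (T * p g * T⁻¹) = T * (p g * (T * p h * T⁻¹)) * T
      have e : p h * (T * p g * T⁻¹) = (T * p g * T⁻¹) * p h := (key h g).eq
      rw [e, hTi]
      calc T * p g * T * p h = T * p g * T * p h * 1 := (mul_one _).symm
        _ = T * p g * T * p h * (T * T) := by rw [hT]
        _ = T * (p g * (T * p h * T)) * T := by group
  refine ⟨SemidirectProduct.lift pp τ compat, ?_, ?_, ?_⟩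
  · rw [wA, SemidirectProduct.lift_inl]
    simp [pp, p, dihLift]
  · rw [wB, SemidirectProduct.lift_inl]
    simp [pp, p, dihLift, show (1 : ZMod 4).val = 1 from rfl, ← mul_assoc, hX]
  · rw [wT, SemidirectProduct.lift_inr]
    exact involHom_gen T hT

theorem gen_form : ∀ w : W, ∃ i j k l : Fin 4, ∃ e : Fin 2,
    w = wA ^ (i : ℕ) * (wA * wB) ^ (j : ℕ) *
      (wT * (wA ^ (k : ℕ) * (wA * wB) ^ (l : ℕ)) * wT) * wT ^ (e : ℕ) := by
  decide +kernel

/-- A homomorphism is determined by the three generators. -/
theorem hom_ext {K : Type*} [Group K] {f g : W →* K} (hA : f wA = g wA) (hB : f wB = g wB)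
    (hT : f wT = g wT) : f = g := by
  ext w
  obtain ⟨i, j, k, l, e, rfl⟩ := gen_form w
  simp [hA, hB, hT]

def permA : Perm (Fin 8) := swap 0 1
def permB : Perm (Fin 8) := swap 0 2 * swap 1 3
def permT : Perm (Fin 8) := swap 0 4 * swap 1 5 * (swap 2 6 * swap 3 7)

set_option maxRecDepth 100000 in
theorem trivial_ker : ∀ i j k l : Fin 4, ∀ e : Fin 2,
      permA ^ (i : ℕ) * (permA * permB) ^ (j : ℕ) *
        (permT * (permA ^ (k : ℕ) * (permA * permB) ^ (l : ℕ)) * permT) * permT ^ (e : ℕ) = 1 →
      wA ^ (i : ℕ) * (wA * wB) ^ (j : ℕ) *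
        (wT * (wA ^ (k : ℕ) * (wA * wB) ^ (l : ℕ)) * wT) * wT ^ (e : ℕ) = 1 := by
  decide +kernel

/-- A Sylow 2-subgroup of the symmetric group of degree eight is isomorphic to `W`. -/
theorem sylow_equiv (T : Sylow 2 (Perm (Fin 8))) : Nonempty (W ≃* ↥(T : Subgroup (Perm (Fin 8)))) := by
  have : Fact (Nat.Prime 2) := ⟨Nat.prime_two⟩
  obtain ⟨f, hA, hB, hT⟩ := exists_hom permA permB permT (by decide +kernel) (by decide +kernel)
    (by decide +kernel) (by decide +kernel) (by unfold Commute SemiconjBy; decide +kernel)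
    (by unfold Commute SemiconjBy; decide +kernel) (by unfold Commute SemiconjBy; decide +kernel)
    (by unfold Commute SemiconjBy; decide +kernel)
  have hinj : Function.Injective f := by
    rw [injective_iff_map_eq_one]
    intro w hw
    obtain ⟨i, j, k, l, e, rfl⟩ := gen_form w
    simp only [map_mul, map_pow, hA, hB, hT] at hw
    exact trivial_ker i j k l e hw
  have hc : Nat.card f.range = 128 := by
    rw [← Nat.card_congr (MonoidHom.ofInjective hinj).toEquiv, card_W]
  have hfac : (Nat.card (Perm (Fin 8))).factorization 2 = 7 := by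
    have e : Nat.card (Perm (Fin 8)) = 2 ^ 7 * 315 := by
      rw [Nat.card_perm, Nat.card_fin]; rfl
    rw [e, Nat.factorization_mul (by norm_num) (by norm_num), Finsupp.add_apply,
      Nat.Prime.factorization_pow Nat.prime_two, Finsupp.single_eq_same,
      Nat.factorization_eq_zero_of_not_dvd (by norm_num)]
  obtain ⟨e⟩ : Nonempty (f.range ≃* ↥(T : Subgroup (Perm (Fin 8)))) :=
    ⟨(Sylow.ofCard f.range (by rw [hc, hfac]; norm_num)).equiv T⟩
  exact ⟨(MonoidHom.ofInjective hinj).trans e⟩

end Cfsg.Agent.WreathEight
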