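/-
Decided facts about the elementary abelian subgroups of `D8 wr 2`.
-/
import Cfsg.Agent.Lib.WreathEight.Model

set_option autoImplicit false
set_option maxRecDepth 100000

namespace Cfsg.Agent.WreathEight

/-- The first kind of four-group inside the dihedral group. -/
def inFourA : D8 → Bool
  | DihedralGroup.r i => decide (i = 0 ∨ i = 2)
  | DihedralGroup.sr i => decide (i = 0 ∨ i = 2)

/-- The second kind of four-group inside the dihedral group. -/
def inFourB : D8 → Bool
  | DihedralGroup.r i => decide (i = 0 ∨ i = 2)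
  | DihedralGroup.sr i => decide (i = 1 ∨ i = 3)

def inV (w : W) : Bool := decide (w.right = 1) && inFourA w.left.1 && inFourA w.left.2
def inV' (w : W) : Bool := decide (w.right = 1) && inFourB w.left.1 && inFourB w.left.2
/-- `Z(D8) × Z(D8)`. -/
def inK (w : W) : Bool := inV w && inV' w
/-- The product of the two four-group products: the base. -/
def inBase (w : W) : Bool := decide (w.right = 1)

def wZ2 : W := SemidirectProduct.inl (1, DihedralGroup.r 2)

def VV : Subgroup W where
  carrier := {w | inV w = true}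
  one_mem' := by decide
  mul_mem' := fun {a b} =>
    (by decide +kernel : ∀ a b : W, inV a = true → inV b = true → inV (a * b) = true) a b
  inv_mem' := fun {a} => (by decide +kernel : ∀ a : W, inV a = true → inV a⁻¹ = true) a

def VV' : Subgroup W where
  carrier := {w | inV' w = true}
  one_mem' := by decide
  mul_mem' := fun {a b} =>
    (by decide +kernel : ∀ a b : W, inV' a = true → inV' b = true → inV' (a * b) = true) a b
  inv_mem' := fun {a} => (by decide +kernel : ∀ a : W, inV' a = true → inV' a⁻¹ = true) a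

def KK : Subgroup W := VV ⊓ VV'

def BB : Subgroup W where
  carrier := {w | inBase w = true}
  one_mem' := by decide
  mul_mem' := fun {a b} =>
    (by decide +kernel : ∀ a b : W, inBase a = true → inBase b = true → inBase (a * b) = true) a b
  inv_mem' := fun {a} => (by decide +kernel : ∀ a : W, inBase a = true → inBase a⁻¹ = true) a

theorem mem_KK {w : W} : w ∈ KK ↔ inK w = true := by
  simp [KK, inK, Subgroup.mem_inf, VV, VV']

theorem KK_eq {w : W} : w ∈ KK ↔ w = 1 ∨ w = wZ1 ∨ w = wZ2 ∨ w = wZ := by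
  rw [mem_KK]
  exact (by decide +kernel : ∀ w : W, inK w = true ↔ w = 1 ∨ w = wZ1 ∨ w = wZ2 ∨ w = wZ) w

theorem BB_gen (S : Subgroup W) (hA : wA ∈ S) (hB : wB ∈ S) (hA' : wA' ∈ S) (hB' : wB' ∈ S) :
    BB ≤ S := by
  intro w hw
  obtain ⟨i, j, k, l, h⟩ := (by decide +kernel : ∀ w : W, inBase w = true → ∃ i j k l : Fin 4,
    w = wA ^ (i : ℕ) * (wA * wB) ^ (j : ℕ) * (wA' ^ (k : ℕ) * (wA' * wB') ^ (l : ℕ))) w hw
  rw [h]
  exact S.mul_mem (S.mul_mem (S.pow_mem hA _) (S.pow_mem (S.mul_mem hA hB) _))
    (S.mul_mem (S.pow_mem hA' _) (S.pow_mem (S.mul_mem hA' hB') _))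

theorem mem_center : ∀ w : W, (∀ x, x * w = w * x) → w = 1 ∨ w = wZ := by decide +kernel
theorem wZ_center : ∀ x : W, x * wZ = wZ * x := by decide +kernel
theorem KK_comm : ∀ w u : W, inBase w = true → inK u = true → w * u = u * w := by decide +kernel
theorem base_sq : ∀ w : W, inBase w = true → inK (w * w) = true := by decide +kernel
theorem base_comm : ∀ w u : W, inBase w = true → inBase u = true → inK (w * u * w⁻¹ * u⁻¹) = true := by
  decide +kernel
theorem cent_base_gens :
    ∀ w : W, w * wA = wA * w → w * wA' = wA' * w → w * wB = wB * w → w * wB' = wB' * w → inK w = true := by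
  decide +kernel

/-- An involution commuting with all its conjugates. -/
def Good (w : W) : Prop := w * w = 1 ∧ ∀ x : W, (x * w * x⁻¹) * w = w * (x * w * x⁻¹)

instance : DecidablePred Good := fun w => by unfold Good; infer_instance

theorem good_iff : ∀ w : W, Good w ↔ (inV w = true ∨ inV' w = true) := by decide +kernel
theorem V_good : ∀ w : W, inV w = true → ∀ x : W, inV (x * w * x⁻¹) = true := by decide +kernel
theorem comm_V : ∀ w u : W, inV w = true → inV u = true → w * u = u * w := by decide +kernel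
theorem comm_V' : ∀ w u : W, inV' w = true → inV' u = true → w * u = u * w := by decide +kernel

/-- Membership in `KK` inside one of the subgroups, in terms of `V ∪ V'`. -/
theorem K_char : ∀ w : W, inV w = true →
    (inK w = true ↔ ∀ x : W, (inV x = true ∨ inV' x = true) → w * x = x * w) := by decide +kernel
theorem K_char' : ∀ w : W, inV' w = true →
    (inK w = true ↔ ∀ x : W, (inV x = true ∨ inV' x = true) → w * x = x * w) := by decide +kernel

theorem diag_cent : ∀ x : W, (inV x = true ∨ inV' x = true) → x * (wA * wA') = (wA * wA') * x →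
    inV x = true := by decide +kernel
theorem diag_cent' : ∀ x : W, (inV x = true ∨ inV' x = true) → x * (wB * wB') = (wB * wB') * x →
    inV' x = true := by decide +kernel

/-- Which of the two central involutions of the base the commutators with the other side hit. -/
theorem side1 : ∀ v : W,
    (inV v = true ∧ inK v = false ∧ ∀ u : W, inV' u = true → (v * u) * (v * u) = 1 ∨ (v * u) * (v * u) = wZ1) ↔
      inK (wA * v) = true := by decide +kernel
theorem side2 : ∀ v : W,
    (inV v = true ∧ inK v = false ∧ ∀ u : W, inV' u = true → (v * u) * (v * u) = 1 ∨ (v * u) * (v * u) = wZ2) ↔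
      inK (wA' * v) = true := by decide +kernel
theorem side1' : ∀ v : W,
    (inV' v = true ∧ inK v = false ∧ ∀ u : W, inV u = true → (v * u) * (v * u) = 1 ∨ (v * u) * (v * u) = wZ1) ↔
      inK (wB * v) = true := by decide +kernel
theorem side2' : ∀ v : W,
    (inV' v = true ∧ inK v = false ∧ ∀ u : W, inV u = true → (v * u) * (v * u) = 1 ∨ (v * u) * (v * u) = wZ2) ↔
      inK (wB' * v) = true := by decide +kernel

/-- Equal up to the centre. -/
def Eqz (v w : W) : Prop := v = w ∨ v = w * wZ

instance : DecidableRel Eqz := fun v w => by unfold Eqz; infer_instance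

/-- An inner automorphism from the base adjusts the four images modulo the centre. -/
theorem adjust : ∀ u₁ u₂ u₃ u₄ : W, inK u₁ = true → inK u₂ = true → inK u₃ = true → inK u₄ = true →
    ∃ d : D8 × D8,
      Eqz ((SemidirectProduct.inl d : W) * (wB * u₁) * (SemidirectProduct.inl d : W)⁻¹) wB ∧
      Eqz ((SemidirectProduct.inl d : W) * (wA * u₂) * (SemidirectProduct.inl d : W)⁻¹) wA ∧
      Eqz ((SemidirectProduct.inl d : W) * (wB' * u₃) * (SemidirectProduct.inl d : W)⁻¹) wB' ∧
      Eqz ((SemidirectProduct.inl d : W) * (wA' * u₄) * (SemidirectProduct.inl d : W)⁻¹) wA' := by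
  have key : ∀ u₁ ∈ [1, wZ1, wZ2, wZ], ∀ u₂ ∈ [1, wZ1, wZ2, wZ], ∀ u₃ ∈ [1, wZ1, wZ2, wZ],
      ∀ u₄ ∈ [1, wZ1, wZ2, wZ], ∃ d : D8 × D8,
      Eqz ((SemidirectProduct.inl d : W) * (wB * u₁) * (SemidirectProduct.inl d : W)⁻¹) wB ∧
      Eqz ((SemidirectProduct.inl d : W) * (wA * u₂) * (SemidirectProduct.inl d : W)⁻¹) wA ∧
      Eqz ((SemidirectProduct.inl d : W) * (wB' * u₃) * (SemidirectProduct.inl d : W)⁻¹) wB' ∧
      Eqz ((SemidirectProduct.inl d : W) * (wA' * u₄) * (SemidirectProduct.inl d : W)⁻¹) wA' := by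
    decide +kernel
  have hm : ∀ u : W, inK u = true → u ∈ [1, wZ1, wZ2, wZ] := by decide +kernel
  exact fun u₁ u₂ u₃ u₄ h1 h2 h3 h4 => key u₁ (hm _ h1) u₂ (hm _ h2) u₃ (hm _ h3) u₄ (hm _ h4)

theorem base_fix : ∀ d : D8 × D8,
    (SemidirectProduct.inl d : W) * wZ1 * (SemidirectProduct.inl d : W)⁻¹ = wZ1 := by decide +kernel

theorem image_tau : ∀ a b a' b' : W, Eqz a wB → Eqz b wA → Eqz a' wB' → Eqz b' wA' →
    ∀ t : W, t * t = 1 → t * a * t⁻¹ = a' → t * b * t⁻¹ = b' → t * a' * t⁻¹ = a → t * b' * t⁻¹ = b →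
      Eqz t wT := by
  have hm : ∀ v w : W, Eqz v w → v ∈ [w, w * wZ] := by
    intro v w h; rcases h with rfl | rfl <;> simp
  have key : ∀ a ∈ [wB, wB * wZ], ∀ b ∈ [wA, wA * wZ], ∀ a' ∈ [wB', wB' * wZ], ∀ b' ∈ [wA', wA' * wZ],
      ∀ t : W, t * t = 1 → t * a * t⁻¹ = a' → t * b * t⁻¹ = b' → t * a' * t⁻¹ = a → t * b' * t⁻¹ = b →
        Eqz t wT := by decide +kernel
  exact fun a b a' b' h1 h2 h3 h4 t => key a (hm _ _ h1) b (hm _ _ h2) a' (hm _ _ h3) b' (hm _ _ h4) t

theorem cent_mod : ∀ p : W, p * wT = wT * p → Eqz (p * wA * p⁻¹) wA → Eqz (p * wB * p⁻¹) wB →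
    Eqz (p * wA' * p⁻¹) wA' → Eqz (p * wB' * p⁻¹) wB' → p = 1 ∨ p = wZ := by decide +kernel

/-- The automorphism exchanging the two kinds of four-groups in a dihedral group. -/
def flipD8 : MulAut D8 where
  toFun g := match g with
    | DihedralGroup.r i => DihedralGroup.r (-i)
    | DihedralGroup.sr i => DihedralGroup.sr (1 - i)
  invFun g := match g with
    | DihedralGroup.r i => DihedralGroup.r (-i)
    | DihedralGroup.sr i => DihedralGroup.sr (1 - i)
  left_inv := by decide
  right_inv := by decide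
  map_mul' := by decide

/-- The automorphism exchanging `V` and `V'`. -/
def flipW : MulAut W where
  toFun w := ⟨(flipD8 w.left.1, flipD8 w.left.2), w.right⟩
  invFun w := ⟨(flipD8 w.left.1, flipD8 w.left.2), w.right⟩
  left_inv := by unfold Function.LeftInverse; decide +kernel
  right_inv := by unfold Function.RightInverse Function.LeftInverse; decide +kernel
  map_mul' := by decide +kernel

theorem flipW_sq : flipW * flipW = 1 := by
  apply MulEquiv.ext
  exact (by decide +kernel : ∀ w : W, flipW (flipW w) = w)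

theorem flipW_V : ∀ w : W, inV (flipW w) = inV' w ∧ inV' (flipW w) = inV w := by decide +kernel
theorem flipW_gens : flipW wA = wB ∧ flipW wB = wA ∧ flipW wA' = wB' ∧ flipW wB' = wA' ∧
    flipW wT = wT ∧ flipW wZ = wZ := by decide +kernel

end Cfsg.Agent.WreathEight
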