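/-
A copy of `D8 wr 2` inside a 2-group of sectional rank at most four: normalizers of its two normal
elementary abelian subgroups of order sixteen.
-/
import Cfsg.Agent.Lib.WreathEight.Facts
import Cfsg.Agent.Lib.CentralPairRank

set_option autoImplicit false
set_option maxRecDepth 10000

namespace Cfsg.Agent.WreathEight

theorem good_map (α : MulAut W) {w : W} (h : Good w) : Good (α w) := by
  refine ⟨by rw [← map_mul, h.1, map_one], fun x => ?_⟩
  obtain ⟨y, rfl⟩ := α.surjective x
  rw [← map_inv, ← map_mul, ← map_mul, ← map_mul, ← map_mul, h.2 y]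

/-- A subgroup inside the union of two subgroups lies in one of them. -/
theorem le_or_le {G : Type*} [Group G] {H A B : Subgroup G} (h : ∀ x ∈ H, x ∈ A ∨ x ∈ B) :
    H ≤ A ∨ H ≤ B := by
  by_contra hc
  push Not at hc
  obtain ⟨x, hx, hxA⟩ := SetLike.not_le_iff_exists.1 hc.1
  obtain ⟨y, hy, hyB⟩ := SetLike.not_le_iff_exists.1 hc.2
  have hxB := (h x hx).resolve_left hxA
  have hyA := (h y hy).resolve_right hyB
  rcases h _ (H.mul_mem hx hy) with h' | h'
  · exact hxA (by simpa using A.mul_mem h' (A.inv_mem hyA))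
  · exact hyB (by simpa using B.mul_mem (B.inv_mem hxB) h')

/-- An automorphism fixes or exchanges `V` and `V'`. -/
theorem dichotomy (α : MulAut W) :
    ((∀ w, inV w = true → inV (α w) = true) ∧ ∀ w, inV' w = true → inV' (α w) = true) ∨
      ((∀ w, inV w = true → inV' (α w) = true) ∧ ∀ w, inV' w = true → inV (α w) = true) := by
  have h : ∀ H : Subgroup W, (∀ w ∈ H, inV w = true ∨ inV' w = true) →
      H.map α.toMonoidHom ≤ VV ∨ H.map α.toMonoidHom ≤ VV' := by
    intro H hH
    refine le_or_le ?_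
    rintro _ ⟨w, hw, rfl⟩
    exact (good_iff _).1 (good_map α ((good_iff w).2 (hH w hw)))
  have hAB : wA * wB ≠ wB * wA := by decide
  have hnot : ∀ X : Subgroup W, (∀ a ∈ X, ∀ b ∈ X, a * b = b * a) →
      VV.map α.toMonoidHom ≤ X → VV'.map α.toMonoidHom ≤ X → False := by
    intro X hX h1 h2
    have hm : α wA * α wB = α wB * α wA :=
      hX _ (h1 ⟨wA, (by decide : inV wA = true), rfl⟩) _ (h2 ⟨wB, (by decide : inV' wB = true), rfl⟩)
    rw [← map_mul, ← map_mul] at hm
    exact hAB (α.injective hm)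
  rcases h VV (fun w hw => Or.inl hw) with h1 | h1 <;>
    rcases h VV' (fun w hw => Or.inr hw) with h2 | h2
  · exact (hnot VV (fun a ha b hb => comm_V a b ha hb) h1 h2).elim
  · exact Or.inl ⟨fun w hw => h1 ⟨w, hw, rfl⟩, fun w hw => h2 ⟨w, hw, rfl⟩⟩
  · exact Or.inr ⟨fun w hw => h1 ⟨w, hw, rfl⟩, fun w hw => h2 ⟨w, hw, rfl⟩⟩
  · exact (hnot VV' (fun a ha b hb => comm_V' a b ha hb) h1 h2).elim

theorem inK_map (α : MulAut W) {w : W} (h : inK w = true) : inK (α w) = true := by
  simp only [inK, Bool.and_eq_true] at h ⊢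
  rcases dichotomy α with ⟨h1, h2⟩ | ⟨h1, h2⟩
  · exact ⟨h1 _ h.1, h2 _ h.2⟩
  · exact ⟨h2 _ h.2, h1 _ h.1⟩

theorem inK_iff (α : MulAut W) (w : W) : inK (α w) = true ↔ inK w = true :=
  ⟨fun h => by simpa using inK_map α⁻¹ h, inK_map α⟩

theorem map_wZ (α : MulAut W) : α wZ = wZ := by
  refine (mem_center (α wZ) fun x => ?_).resolve_left fun h => ?_
  · obtain ⟨y, rfl⟩ := α.surjective x
    rw [← map_mul, ← map_mul, wZ_center]
  · rw [← map_one α] at h
    exact absurd (α.injective h) (by decide)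

theorem map_wZ1 (α : MulAut W) : α wZ1 = wZ1 ∨ α wZ1 = wZ2 := by
  have h := inK_map α (show inK wZ1 = true by decide)
  rcases KK_eq.1 (mem_KK.2 h) with e | e | e | e
  · rw [← map_one α] at e
    exact absurd (α.injective e) (by decide)
  · exact Or.inl e
  · exact Or.inr e
  · rw [← map_wZ α] at e
    exact absurd (α.injective e) (by decide)

theorem map_wZ2 (α : MulAut W) (h : α wZ1 = wZ1) : α wZ2 = wZ2 := by
  rw [show wZ2 = wZ1 * wZ by decide, map_mul, h, map_wZ]

theorem eqz_map (α : MulAut W) {v w : W} (h : Eqz v w) : Eqz (α v) (α w) := by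
  rcases h with rfl | rfl
  · exact Or.inl rfl
  · exact Or.inr (by rw [map_mul, map_wZ])

theorem eqz_trans {u v w : W} (h : Eqz u v) (h' : Eqz v w) : Eqz u w := by
  rcases h with rfl | rfl <;> rcases h' with rfl | rfl
  · exact Or.inl rfl
  · exact Or.inr rfl
  · exact Or.inr rfl
  · exact Or.inl (by rw [mul_assoc, show wZ * wZ = 1 by decide, mul_one])

variable {S : Type*} [Group S]

theorem exists_alpha (f : W →* S) (hf : Function.Injective f) (n : S)
    (hn : ∀ w, n * f w * n⁻¹ ∈ f.range) : ∃ α : MulAut W, ∀ w, f (α w) = n * f w * n⁻¹ := by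
  let g : W →* f.range := ((MulAut.conj n).toMonoidHom.comp f).codRestrict f.range fun w => hn w
  let h : W →* W := (MonoidHom.ofInjective hf).symm.toMonoidHom.comp g
  have hh : ∀ w, f (h w) = n * f w * n⁻¹ := fun w => by
    have := congrArg (Subtype.val : f.range → S) ((MonoidHom.ofInjective hf).apply_symm_apply (g w))
    simpa [h, g, MonoidHom.ofInjective_apply] using this
  have hinj : Function.Injective h := fun a b e => hf (by
    have := congrArg f e
    rw [hh, hh] at this
    exact mul_left_cancel (mul_right_cancel this))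
  exact ⟨MulEquiv.ofBijective h ((Finite.injective_iff_bijective).1 hinj), hh⟩

variable [Finite S]

/-- Above a proper subgroup there is a normalizing element with square inside. -/
theorem exists_step (h2 : IsPGroup 2 S) {R M : Subgroup S} (hlt : R < M) :
    ∃ g ∈ M, g ∉ R ∧ (∀ r ∈ R, g * r * g⁻¹ ∈ R) ∧ g * g ∈ R := by
  classical
  have : Fact (Nat.Prime 2) := ⟨Nat.prime_two⟩
  have hnil : Group.IsNilpotent M := (h2.to_subgroup M).isNilpotent
  have hne : R.subgroupOf M < ⊤ :=
    lt_top_iff_ne_top.2 fun h => hlt.not_ge (Subgroup.subgroupOf_eq_top.1 h)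
  obtain ⟨h, hh, hhR⟩ := SetLike.exists_of_lt (Group.normalizerCondition_of_isNilpotent _ hne)
  have hnorm : ∀ r ∈ R, (h : S) * r * (h : S)⁻¹ ∈ R := fun r hr => by
    have := (Subgroup.mem_normalizer_iff.1 hh ⟨r, hlt.le hr⟩).1 (Subgroup.mem_subgroupOf.2 hr)
    simpa [Subgroup.mem_subgroupOf] using this
  have hhR' : (h : S) ∉ R := fun e => hhR (Subgroup.mem_subgroupOf.2 e)
  obtain ⟨k, hk⟩ := h2 (h : S)
  let P : ℕ → Prop := fun j => (h : S) ^ (2 ^ j) ∈ R
  have hex : ∃ j, P j := ⟨k, by show _ ∈ R; rw [hk]; exact R.one_mem⟩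
  have hj := Nat.find_spec hex
  obtain ⟨i, hi⟩ : ∃ i, Nat.find hex = i + 1 := by
    rcases hfind : Nat.find hex with _ | i
    · rw [hfind] at hj
      exact absurd (by simpa [P] using hj) hhR'
    · exact ⟨i, rfl⟩
  refine ⟨(h : S) ^ (2 ^ i), M.pow_mem h.2 _, Nat.find_min hex (by omega), ?_, ?_⟩
  · have : ∀ e : ℕ, ∀ r ∈ R, (h : S) ^ e * r * ((h : S) ^ e)⁻¹ ∈ R := by
      intro e
      induction e with
      | zero => intro r hr; simpa using hr
      | succ e ih =>
        intro r hr
        rw [pow_succ, show (h : S) ^ e * h * r * ((h : S) ^ e * h)⁻¹ =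
          (h : S) ^ e * (h * r * (h : S)⁻¹) * ((h : S) ^ e)⁻¹ by group]
        exact ih _ (hnorm r hr)
    exact this _
  · rw [hi] at hj
    simpa [P, pow_succ, mul_two, pow_add] using hj

variable (hr : Cfsg.SectionalPRankLE 2 4 S) (h2 : IsPGroup 2 S)

include hr in
/-- No element outside the base acts trivially modulo `Z(D8) × Z(D8)` with square in it. -/
theorem rank_contra (f : W →* S) (hf : Function.Injective f) (m : S) (hm : m ∉ BB.map f)
    (hc : ∀ g ∈ [wA, wA', wB, wB'], m * f g * m⁻¹ * (f g)⁻¹ ∈ KK.map f)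
    (hk : ∀ k ∈ KK, m * f k = f k * m) (hsq : m * m ∈ KK.map f) : False := by
  classical
  set K := KK.map f with hK
  set X := BB.map f ⊔ Subgroup.zpowers m with hX
  have hKB : KK ≤ BB := fun w hw =>
    (by decide +kernel : ∀ w : W, inK w = true → inBase w = true) w (mem_KK.1 hw)
  have hKX : K ≤ X := (Subgroup.map_mono hKB).trans le_sup_left
  have hXK : X ≤ Subgroup.centralizer (K : Set S) := by
    refine sup_le ?_ (Subgroup.zpowers_le.2 (Subgroup.mem_centralizer_iff.2 ?_))
    · rintro _ ⟨d, hd, rfl⟩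
      rw [Subgroup.mem_centralizer_iff]
      rintro _ ⟨k, hk', rfl⟩
      rw [← map_mul, ← map_mul, ← KK_comm d k hd (mem_KK.1 hk')]
    · rintro _ ⟨k, hk', rfl⟩
      exact (hk k hk').symm
  have hn : (K.subgroupOf X).Normal := ⟨fun a ha x => by
    rw [Subgroup.mem_subgroupOf] at ha ⊢
    have := Subgroup.mem_centralizer_iff.1 (hXK x.2) _ ha
    simp only [Subgroup.coe_mul, Subgroup.coe_inv]
    rw [← this, mul_inv_cancel_right]
    exact ha⟩
  let q := QuotientGroup.mk' (K.subgroupOf X)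
  have hq : ∀ x y : X, (x : S) * y * (x : S)⁻¹ * (y : S)⁻¹ ∈ K → q x * q y = q y * q x := by
    intro x y h
    have h1 : q (x * y * x⁻¹ * y⁻¹) = 1 :=
      (QuotientGroup.eq_one_iff _).2 (Subgroup.mem_subgroupOf.2 (by simpa using h))
    simp only [map_mul, map_inv] at h1
    calc q x * q y = q x * q y * (q x)⁻¹ * (q y)⁻¹ * (q y * q x) := by group
      _ = q y * q x := by rw [h1, one_mul]
  have hsq1 : ∀ x : X, (x : S) * x ∈ K → q x * q x = 1 := fun x h => by
    rw [← map_mul]; exact (QuotientGroup.eq_one_iff _).2 (Subgroup.mem_subgroupOf.2 (by simpa using h))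
  let m' : X := ⟨m, le_sup_right (a := BB.map f) (Subgroup.mem_zpowers m)⟩
  let d' : BB → X := fun d => ⟨f d, le_sup_left (b := Subgroup.zpowers m) ⟨d, d.2, rfl⟩⟩
  have hmd : ∀ d : BB, q m' * q (d' d) = q (d' d) * q m' := by
    let C : Subgroup W :=
      { carrier := {w | ∃ h : w ∈ BB, q m' * q (d' ⟨w, h⟩) = q (d' ⟨w, h⟩) * q m'}
        one_mem' := ⟨BB.one_mem, by
          rw [show d' ⟨1, BB.one_mem⟩ = 1 from Subtype.ext (map_one f)]; simp⟩
        mul_mem' := by
          rintro a b ⟨ha, ea⟩ ⟨hb, eb⟩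
          refine ⟨BB.mul_mem ha hb, ?_⟩
          rw [show d' ⟨a * b, BB.mul_mem ha hb⟩ = d' ⟨a, ha⟩ * d' ⟨b, hb⟩ from
            Subtype.ext (map_mul f a b), map_mul, ← mul_assoc, ea, mul_assoc, eb, mul_assoc]
        inv_mem' := by
          rintro a ⟨ha, ea⟩
          refine ⟨BB.inv_mem ha, ?_⟩
          rw [show d' ⟨a⁻¹, BB.inv_mem ha⟩ = (d' ⟨a, ha⟩)⁻¹ from Subtype.ext (map_inv f a), map_inv]
          exact (show Commute (q m') (q (d' ⟨a, ha⟩)) from ea).inv_right }
    have hmem : ∀ g, g ∈ [wA, wA', wB, wB'] → ∀ h : g ∈ BB, g ∈ C := fun g hg h =>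
      ⟨h, hq m' (d' ⟨g, h⟩) (hc g hg)⟩
    intro d
    obtain ⟨h, e⟩ := BB_gen C (hmem _ (by simp) (by decide : inBase wA = true))
      (hmem _ (by simp) (by decide : inBase wB = true)) (hmem _ (by simp) (by decide : inBase wA' = true))
      (hmem _ (by simp) (by decide : inBase wB' = true)) d.2
    exact e
  set G : Set (X ⧸ K.subgroupOf X) := insert (q m') (Set.range fun d => q (d' d)) with hG
  have hcomm : ∀ a ∈ G, ∀ b ∈ G, a * b = b * a := by
    rintro a (rfl | ⟨d, rfl⟩) b (rfl | ⟨e, rfl⟩)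
    · rfl
    · exact hmd e
    · exact (hmd d).symm
    · exact hq (d' d) (d' e) (by
        show f d * f e * (f d)⁻¹ * (f e)⁻¹ ∈ K
        rw [← map_inv, ← map_inv, ← map_mul, ← map_mul, ← map_mul]
        exact ⟨_, mem_KK.2 (base_comm _ _ d.2 e.2), rfl⟩)
  have hsqG : ∀ a ∈ G, a * a = 1 := by
    rintro a (rfl | ⟨d, rfl⟩)
    · exact hsq1 m' hsq
    · exact hsq1 (d' d) (by
        show f d * f d ∈ K
        rw [← map_mul]; exact ⟨_, mem_KK.2 (base_sq _ d.2), rfl⟩)
  have htop : Subgroup.closure G = ⊤ := by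
    rw [eq_top_iff]
    intro y _
    obtain ⟨x, rfl⟩ := QuotientGroup.mk_surjective y
    let T : Subgroup X := (Subgroup.closure G).comap q
    have hT : X ≤ T.map X.subtype := by
      refine sup_le ?_ (Subgroup.zpowers_le.2 ⟨m', Subgroup.subset_closure (Set.mem_insert _ _), rfl⟩)
      rintro _ ⟨d, hd, rfl⟩
      exact ⟨d' ⟨d, hd⟩, Subgroup.subset_closure (Set.mem_insert_of_mem _ ⟨⟨d, hd⟩, rfl⟩), rfl⟩
    obtain ⟨x', hx', e⟩ := hT x.2
    exact (Subtype.ext e : x' = x) ▸ hx'
  have hall : ∀ a b : X ⧸ K.subgroupOf X, a * b = b * a := by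
    have h1 : ∀ a ∈ G, a ∈ Subgroup.center (X ⧸ K.subgroupOf X) := fun a ha => by
      have : Subgroup.closure G ≤ Subgroup.centralizer {a} := (Subgroup.closure_le _).2 fun b hb =>
        Subgroup.mem_centralizer_singleton_iff.2 (hcomm b hb a ha)
      rw [htop] at this
      exact Subgroup.mem_center_iff.2 fun b =>
        Subgroup.mem_centralizer_singleton_iff.1 (this (Subgroup.mem_top b))
    have h2 : Subgroup.closure G ≤ Subgroup.center _ := (Subgroup.closure_le _).2 h1
    rw [htop] at h2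
    exact fun a b => (Subgroup.mem_center_iff.1 (h2 (Subgroup.mem_top a)) b).symm
  have hexp : ∀ a : X ⧸ K.subgroupOf X, a ^ 2 = 1 := by
    intro a
    have ha : a ∈ Subgroup.closure G := htop ▸ Subgroup.mem_top a
    induction ha using Subgroup.closure_induction with
    | mem x hx => rw [pow_two]; exact hsqG x hx
    | one => simp
    | mul x y _ _ hx hy => rw [(show Commute x y from hall x y).mul_pow, hx, hy, one_mul]
    | inv x _ hx => rw [inv_pow, hx, inv_one]
  have hbound := CfsgLib.CentralPair.sect_bound hr X.subtype Subtype.val_injective q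
    (QuotientGroup.mk'_surjective _) hexp
  have hmul := Subgroup.card_eq_card_quotient_mul_card_subgroup (K.subgroupOf X)
  rw [Nat.card_congr (Subgroup.subgroupOfEquivOfLe hKX).toEquiv] at hmul
  have hKc : Nat.card K = 4 := by
    rw [hK, Subgroup.card_map_of_injective hf]
    calc Nat.card KK = Nat.card {w : W // inK w = true} := Nat.card_congr
          (Equiv.subtypeEquivRight fun w => mem_KK)
      _ = 4 := by rw [Nat.card_eq_fintype_card]; decide +kernel
  have hBc : Nat.card (BB.map f) = 64 := by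
    rw [Subgroup.card_map_of_injective hf]
    calc Nat.card BB = Nat.card {w : W // inBase w = true} := rfl
      _ = 64 := by rw [Nat.card_eq_fintype_card]; decide +kernel
  have hlt : BB.map f < X := lt_of_le_of_ne le_sup_left fun e => hm (e ▸ m'.2)
  obtain ⟨c, hc'⟩ := Subgroup.card_dvd_of_le hlt.le
  rw [hBc] at hc'
  have hc2 : 2 ≤ c := by
    rcases c with _ | _ | c
    · have := Nat.card_pos (α := X); omega
    · exact absurd (Subgroup.eq_of_le_of_card_ge hlt.le (by rw [hBc]; omega)) hlt.ne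
    · omega
  rw [hKc] at hmul
  omega

include hr in
/-- An element acting trivially modulo `Z(D8) × Z(D8)` on both fours. -/
theorem fix_contra (f : W →* S) (hf : Function.Injective f) (g : S) (hg : g ∉ f.range)
    (hsq : g * g ∈ f.range) (α : MulAut W) (hα : ∀ w, f (α w) = g * f w * g⁻¹)
    (hV : ∀ w, inV w = true → inV (α w) = true) (hV' : ∀ w, inV' w = true → inV' (α w) = true)
    (hz : α wZ1 = wZ1) : False := by
  have hz2 : α wZ2 = wZ2 := map_wZ2 α hz
  have hKfix : ∀ k, inK k = true → α k = k := fun k hk => by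
    rcases KK_eq.1 (mem_KK.2 hk) with rfl | rfl | rfl | rfl
    · exact map_one α
    · exact hz
    · exact hz2
    · exact map_wZ α
  have hs : (∀ w, inV w = true → inV (α⁻¹ w) = true) ∧ ∀ w, inV' w = true → inV' (α⁻¹ w) = true := by
    rcases dichotomy α⁻¹ with h | ⟨h1, -⟩
    · exact h
    · have h3 := hV' _ (h1 wA (by decide))
      rw [MulAut.apply_inv_self] at h3
      exact absurd h3 (by decide)
  have side : ∀ (v z : W), (α z = z) → (inK v = false) →
      ((inV v = true ∧ ∀ u : W, inV' u = true → (v * u) * (v * u) = 1 ∨ (v * u) * (v * u) = z) →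
        inV (α v) = true ∧ inK (α v) = false ∧
          ∀ u : W, inV' u = true → (α v * u) * (α v * u) = 1 ∨ (α v * u) * (α v * u) = z) ∧
      ((inV' v = true ∧ ∀ u : W, inV u = true → (v * u) * (v * u) = 1 ∨ (v * u) * (v * u) = z) →
        inV' (α v) = true ∧ inK (α v) = false ∧
          ∀ u : W, inV u = true → (α v * u) * (α v * u) = 1 ∨ (α v * u) * (α v * u) = z) := by
    intro v z hz hvK
    have hK : inK (α v) = false := by
      rw [Bool.eq_false_iff] at hvK ⊢
      exact fun h => hvK ((inK_iff α v).1 h)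
    constructor <;> rintro ⟨hv, hvu⟩ <;> refine ⟨by first | exact hV v hv | exact hV' v hv, hK, fun u hu => ?_⟩
    all_goals
      obtain ⟨u, rfl⟩ := α.surjective u
      rw [← map_mul, ← map_mul]
      have hu' := by first | exact hs.2 _ hu | exact hs.1 _ hu
      rw [MulAut.inv_apply, MulEquiv.symm_apply_apply] at hu'
      rcases hvu u hu' with e | e <;> rw [e]
      · exact Or.inl (map_one α)
      · exact Or.inr hz
  have hA := (side1 (α wA)).1 ((side wA wZ1 hz (by decide)).1
    ⟨by decide, ((side1 wA).2 (by decide)).2.2⟩)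
  have hA' := (side2 (α wA')).1 ((side wA' wZ2 hz2 (by decide)).1
    ⟨by decide, ((side2 wA').2 (by decide)).2.2⟩)
  have hB := (side1' (α wB)).1 ((side wB wZ1 hz (by decide)).2
    ⟨by decide, ((side1' wB).2 (by decide)).2.2⟩)
  have hB' := (side2' (α wB')).1 ((side wB' wZ2 hz2 (by decide)).2
    ⟨by decide, ((side2' wB').2 (by decide)).2.2⟩)
  have hall : ∀ x ∈ [wA, wA', wB, wB'], inK (x * α x) = true := by
    simp only [List.forall_mem_cons]
    exact ⟨hA, hA', hB, hB', by simp⟩
  have hinv : ∀ x ∈ [wA, wA', wB, wB'], x * x = 1 := by decide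
  have hsq2 : ∀ x ∈ [wA, wA', wB, wB'], α (α x) = x := by
    intro x hx
    have hu := hall x hx
    have e : α x = x * (x * α x) := by rw [← mul_assoc, hinv x hx, one_mul]
    generalize x * α x = u at hu e
    rw [e, map_mul, hKfix u hu, e, mul_assoc,
      (by decide +kernel : ∀ u : W, inK u = true → u * u = 1) u hu, mul_one]
  obtain ⟨p, hp⟩ := hsq
  have hpc : ∀ x ∈ [wA, wA', wB, wB'], p * x = x * p := by
    intro x hx
    apply hf
    rw [map_mul, map_mul, hp]
    have := hα (α x)
    rw [hα x, hsq2 x hx] at this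
    conv_rhs => rw [this]
    group
  have hpK := cent_base_gens p (hpc _ (by simp)) (hpc _ (by simp)) (hpc _ (by simp)) (hpc _ (by simp))
  refine rank_contra hr f hf g (fun h => hg (Subgroup.map_le_range f BB h)) ?_ ?_
    ⟨p, mem_KK.2 hpK, hp⟩
  · intro x hx
    refine ⟨α x * x⁻¹, ?_, by rw [map_mul, map_inv, hα]⟩
    have hu := hall x hx
    apply mem_KK.2
    have key : ∀ x ∈ [wA, wA', wB, wB'], ∀ y : W, inK (x * y) = true → inK (y * x⁻¹) = true := by
      decide +kernel
    exact key x hx _ hu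
  · intro k hk
    have := hα k
    rw [hKfix k (mem_KK.1 hk)] at this
    conv_rhs => rw [this]
    group

include hr h2 in
/-- The normalizer of `V` lies in the copy of `D8 wr 2`. -/
theorem normalizer_VV_le (f : W →* S) (hf : Function.Injective f) :
    Subgroup.normalizer (VV.map f : Set S) = f.range := by
  have hle : f.range ≤ Subgroup.normalizer (VV.map f : Set S) := by
    rintro _ ⟨w, rfl⟩
    rw [Subgroup.mem_normalizer_iff]
    intro a
    constructor
    · rintro ⟨v, hv, rfl⟩
      exact ⟨w * v * w⁻¹, V_good v hv w, by simp⟩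
    · rintro ⟨v, hv, e⟩
      refine ⟨w⁻¹ * v * w⁻¹⁻¹, V_good v hv w⁻¹, ?_⟩
      simp [e, mul_assoc]
  by_contra hne
  obtain ⟨g, hgM, hgR, hgn, hg2⟩ := exists_step h2 (lt_of_le_of_ne hle (Ne.symm hne))
  have main : ∀ g, g ∈ Subgroup.normalizer (VV.map f : Set S) → g ∉ f.range →
      g * g ∈ f.range → ∀ α : MulAut W, (∀ w, f (α w) = g * f w * g⁻¹) →
      α wZ1 = wZ1 → False := by
    intro g hgM hgR hg2 α hα hz
    have hV : ∀ w, inV w = true → inV (α w) = true := fun w hw => by
      obtain ⟨v, hv, e⟩ := (Subgroup.mem_normalizer_iff.1 hgM (f w)).1 ⟨w, hw, rfl⟩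
      rw [← hα] at e
      rw [← hf e]; exact hv
    rcases dichotomy α with ⟨-, h⟩ | ⟨h, -⟩
    · exact fix_contra hr f hf g hgR hg2 α hα hV h hz
    · have hA := h wA (by decide)
      have hK : inK (α wA) = true := by simp [inK, hV wA (by decide), hA]
      exact absurd ((inK_iff α wA).1 hK) (by decide)
  obtain ⟨α, hα⟩ := exists_alpha f hf g fun w => hgn _ ⟨w, rfl⟩
  rcases map_wZ1 α with hz | hz
  · exact main g hgM hgR hg2 α hα hz
  · obtain ⟨y, hy⟩ := hgn (f wT) ⟨wT, rfl⟩
    obtain ⟨p, hp⟩ := hg2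
    refine main (f wT * g) (mul_mem (hle ⟨wT, rfl⟩) hgM)
      (fun h => hgR (by simpa using mul_mem (inv_mem (⟨wT, rfl⟩ : f wT ∈ f.range)) h))
      ⟨wT * y * p, by rw [map_mul, map_mul, hp, hy]; group⟩ ((MulAut.conj wT) * α) (fun w => ?_) ?_
    · show f (wT * α w * wT⁻¹) = _
      rw [map_mul, map_mul, map_inv, hα]; group
    · show wT * α wZ1 * wT⁻¹ = wZ1
      rw [hz]; decide

end Cfsg.Agent.WreathEight
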