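/-
A `D8 wr 2` properly contained in a 2-group of sectional rank at most four.
-/
import Cfsg.Agent.Lib.WreathEight.Frame

set_option autoImplicit false
set_option maxRecDepth 100000

namespace Cfsg.Agent.WreathEight

theorem flip_compat_gen : ∀ x : C2, x = 1 ∨ x = Multiplicative.ofAdd 1 := by decide

/-- The overgroup modulo the centre, as a decidable group (before dividing by the centre). -/
abbrev MM : Type := W ⋊[involHom flipW flipW_sq] C2

def mX : MM := SemidirectProduct.inl wT
def mN : MM := SemidirectProduct.inr (Multiplicative.ofAdd 1)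
def mY : MM := SemidirectProduct.inl (wB * wA' * wT) * mN
def mT : MM := SemidirectProduct.inl wB'
def mZ : MM := SemidirectProduct.inl wZ

/-- Trivial up to the centre. -/
def Triv (u : MM) : Prop := u = 1 ∨ u = mZ

instance : DecidableEq MM := fun a b =>
  decidable_of_iff (a.left = b.left ∧ a.right = b.right) SemidirectProduct.ext_iff.symm

instance : DecidablePred Triv := fun u => by unfold Triv; infer_instance

theorem mm_r1 : Triv (mX * mX) := by decide +kernel
theorem mm_r2 : Triv (mY * mY) := by decide +kernel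
theorem mm_r3 : Triv (mT * mT) := by decide +kernel
theorem mm_r4 : Triv ((mX * mY) ^ 4) := by decide +kernel
theorem mm_r5 : Triv (mX * (mT * mX * mT) * ((mT * mX * mT) * mX)⁻¹) := by decide +kernel
theorem mm_r6 : Triv (mX * (mT * mY * mT) * ((mT * mY * mT) * mX)⁻¹) := by decide +kernel
theorem mm_r7 : Triv (mY * (mT * mX * mT) * ((mT * mX * mT) * mY)⁻¹) := by decide +kernel
theorem mm_r8 : Triv (mY * (mT * mY * mT) * ((mT * mY * mT) * mY)⁻¹) := by decide +kernel
theorem mm_w1 : Triv ((SemidirectProduct.inl wA : MM)⁻¹ * (mX * mY * mX * mT * mX * mY * mX)) := by decide +kernel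
theorem mm_w2 : Triv ((SemidirectProduct.inl wB : MM)⁻¹ * (mX * mT * mX)) := by decide +kernel
theorem mm_w3 : Triv ((SemidirectProduct.inl wT : MM)⁻¹ * mX) := by decide +kernel
theorem mm_w4 : Triv (mN⁻¹ * (mX * mT * mX * mY * mX * mT)) := by decide +kernel

variable {S : Type*} [Group S] [Finite S]
variable (hr : Cfsg.SectionalPRankLE 2 4 S) (h2 : IsPGroup 2 S)

include hr h2 in
theorem center_eq (f : W →* S) (hf : Function.Injective f) :
    (Subgroup.center S : Set S) = {1, f wZ} := by
  classical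
  have hcent : ∀ c : S, (∀ w, c * f w = f w * c) → c = 1 ∨ c = f wZ := by
    have inR : ∀ c : S, c ∈ f.range → (∀ w, c * f w = f w * c) → c = 1 ∨ c = f wZ := by
      rintro _ ⟨v, rfl⟩ h
      rcases mem_center v (fun x => hf (by rw [map_mul, map_mul, h])) with rfl | rfl
      · exact Or.inl (map_one f)
      · exact Or.inr rfl
    intro c hc
    by_contra hne
    have hcR : c ∉ f.range := fun h => hne (inR c h hc)
    obtain ⟨k, hk⟩ := h2 c
    have hex : ∃ j, c ^ (2 ^ j) ∈ f.range := ⟨k, by rw [hk]; exact one_mem _⟩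
    have hj := Nat.find_spec hex
    obtain ⟨i, hi⟩ : ∃ i, Nat.find hex = i + 1 := by
      rcases hfind : Nat.find hex with _ | i
      · rw [hfind, pow_zero, pow_one] at hj; exact absurd hj hcR
      · exact ⟨i, rfl⟩
    have hm : ∀ w, c ^ (2 ^ i) * f w = f w * c ^ (2 ^ i) := fun w =>
      ((show Commute c (f w) from hc w).pow_left _).eq
    have hmR : c ^ (2 ^ i) ∉ f.range := Nat.find_min hex (by omega)
    have hsq : c ^ (2 ^ i) * c ^ (2 ^ i) ∈ f.range := by
      rw [hi] at hj
      simpa [pow_succ, mul_two, pow_add] using hj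
    refine rank_contra hr f hf _ (fun h => hmR (Subgroup.map_le_range f BB h)) (fun g _ => ?_)
      (fun k _ => hm k) ?_
    · rw [hm g]; simp
    · rcases inR _ hsq (fun w => ((show Commute (c ^ (2 ^ i)) (f w) from hm w).mul_left (hm w)).eq) with e | e
      · rw [e]; exact one_mem _
      · rw [e]; exact ⟨wZ, mem_KK.2 (by decide), rfl⟩
  ext c
  constructor
  · intro hc
    exact hcent c fun w => (Subgroup.mem_center_iff.1 hc (f w)).symm
  · intro hc
    have : Nontrivial W := ⟨⟨1, wA, by decide⟩⟩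
    have hnt : Nontrivial S := hf.nontrivial
    have : Fact (Nat.Prime 2) := ⟨Nat.prime_two⟩
    have hz : f wZ ∈ Subgroup.center S := by
      obtain ⟨x, hx, hx1⟩ := SetLike.exists_of_lt
        (bot_lt_iff_ne_bot.2 ((Subgroup.nontrivial_iff_ne_bot _).1 h2.center_nontrivial))
      rcases hcent x (fun w => (Subgroup.mem_center_iff.1 hx (f w)).symm) with e | e
      · exact absurd (Subgroup.mem_bot.2 e) hx1
      · rwa [← e]
    rcases hc with rfl | rfl
    · exact one_mem _
    · exact hz

include hr h2 in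
/-- All about the normalizer of a proper copy of `D8 wr 2`. -/
theorem main (f : W →* S) (hf : Function.Injective f) (P : Subgroup S) (hfP : f.range = P)
    (hlt : P ≠ ⊤) (T : Sylow 2 (Equiv.Perm (Fin 8))) :
    Subgroup.center S = (Subgroup.center ↥P).map P.subtype ∧
    Nat.card ↥(Subgroup.center S) = 2 ∧
    P.relIndex (Subgroup.normalizer (P : Set S)) = 2 ∧
    ∃ (_ : ((Subgroup.center S).subgroupOf (Subgroup.normalizer (P : Set S))).Normal),
      Nonempty (↥(Subgroup.normalizer (P : Set S)) ⧸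
          (Subgroup.center S).subgroupOf (Subgroup.normalizer (P : Set S)) ≃*
        ↥(T : Subgroup (Equiv.Perm (Fin 8)))) := by
  classical
  have hC := center_eq hr h2 f hf
  have hcenP : Subgroup.center S = (Subgroup.center ↥P).map P.subtype := by
    apply SetLike.coe_injective
    rw [hC]
    ext c
    constructor
    · intro hc
      have hcS : c ∈ Subgroup.center S := by
        rw [← SetLike.mem_coe, hC]; exact hc
      have hcP : c ∈ P := by
        rw [← hfP]
        rcases hc with rfl | rfl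
        · exact one_mem _
        · exact ⟨wZ, rfl⟩
      exact ⟨⟨c, hcP⟩, Subgroup.mem_center_iff.2 fun x => Subtype.ext (Subgroup.mem_center_iff.1 hcS x), rfl⟩
    · rintro ⟨⟨d, hd⟩, hdc, rfl⟩
      obtain ⟨v, hv⟩ := (hfP ▸ hd : d ∈ f.range)
      have : ∀ x, x * v = v * x := fun x => hf (by
        have h1 := Subgroup.mem_center_iff.1 hdc ⟨f x, hfP ▸ ⟨x, rfl⟩⟩
        have h1' := congrArg Subtype.val h1
        simp only [Subgroup.coe_mul] at h1'
        rw [map_mul, map_mul, hv]; exact h1')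
      rcases mem_center v this with rfl | rfl
      · left; show d = 1; rw [← hv, map_one]
      · right; show d = f wZ; exact hv.symm
  have hz1 : f wZ ≠ 1 := fun h => absurd (hf (h.trans (map_one f).symm)) (by decide)
  have hZ2 : Nat.card ↥(Subgroup.center S) = 2 := by
    show Nat.card ↥((Subgroup.center S : Subgroup S) : Set S) = 2
    rw [hC, Nat.card_coe_set_eq]
    exact Set.ncard_pair (Ne.symm hz1)
  -- an element exchanging the two fours
  set N := Subgroup.normalizer (P : Set S) with hN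
  obtain ⟨n₀, -, hn₀R, hn₀n, -⟩ := exists_step h2 (lt_top_iff_ne_top.2 hlt)
  have hswap : ∀ n : S, n ∉ P → ∀ α : MulAut W, (∀ w, f (α w) = n * f w * n⁻¹) →
      (∀ w, inV w = true → inV' (α w) = true) ∧ ∀ w, inV' w = true → inV (α w) = true := by
    intro n hn α hα
    rcases dichotomy α with ⟨hV, -⟩ | h
    · exfalso
      apply hn
      rw [← hfP, ← normalizer_VV_le hr h2 f hf]
      rw [Subgroup.mem_normalizer_iff]
      intro a
      have hV' : ∀ w, inV w = true → inV (α⁻¹ w) = true := by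
        rcases dichotomy α⁻¹ with ⟨h, -⟩ | ⟨-, h⟩
        · exact h
        · intro w hw
          by_cases hk : inV' w = true
          · exact h w hk
          · exfalso
            rcases dichotomy α⁻¹ with ⟨h', -⟩ | ⟨h', -⟩
            · have hA1 := h' wA (by decide)
              have hB1 := h wB (by decide)
              have e : α⁻¹ wA * α⁻¹ wB = α⁻¹ wB * α⁻¹ wA := comm_V _ _ hA1 hB1
              rw [← map_mul, ← map_mul] at e
              exact absurd (α⁻¹.injective e) (by decide)
            · have h3 := hV _ (h wB (by decide))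
              rw [MulAut.apply_inv_self] at h3
              exact absurd h3 (by decide)
      constructor
      · rintro ⟨v, hv, rfl⟩
        exact ⟨α v, hV v hv, hα v⟩
      · rintro ⟨v, hv, e⟩
        refine ⟨α⁻¹ v, hV' v hv, ?_⟩
        have := hα (α⁻¹ v)
        rw [MulAut.apply_inv_self, e] at this
        exact (mul_left_cancel (mul_right_cancel this)).symm
    · exact h
  have hmemN : ∀ n : S, n ∈ N → ∀ w, n * f w * n⁻¹ ∈ f.range := fun n hn w => by
    rw [hfP]
    exact (Subgroup.mem_normalizer_iff.1 hn (f w)).1 (hfP ▸ ⟨w, rfl⟩)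
  have hoftwo : ∀ n ∈ N, ∀ m ∈ N, n ∉ P → m ∉ P → n * m ∈ P := by
    intro n hn m hm hnP hmP
    by_contra hc
    obtain ⟨α, hα⟩ := exists_alpha f hf n (hmemN n hn)
    obtain ⟨β, hβ⟩ := exists_alpha f hf m (hmemN m hm)
    have hp := hswap (n * m) hc (α * β) fun w => by
      show f (α (β w)) = _
      rw [hα, hβ]; group
    have h1 := hp.1 wA (by decide)
    have h2' := (hswap n hnP α hα).2 _ ((hswap m hmP β hβ).1 wA (by decide))
    have hK : inK (α (β wA)) = true := by
      simp only [inK, Bool.and_eq_true]; exact ⟨h2', h1⟩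
    exact absurd ((inK_iff _ _).1 ((inK_iff _ _).1 hK)) (by decide)
  have hn₀N : n₀ ∈ N := by
    rw [hN, Subgroup.mem_normalizer_iff]
    intro a
    refine ⟨hn₀n a, fun h => ?_⟩
    obtain ⟨α, hα⟩ := exists_alpha f hf n₀ fun w => by
      rw [hfP]; exact hn₀n _ (hfP ▸ ⟨w, rfl⟩)
    obtain ⟨v, hv⟩ := (hfP ▸ h : n₀ * a * n₀⁻¹ ∈ f.range)
    have := hα (α⁻¹ v)
    rw [MulAut.apply_inv_self, hv] at this
    rw [mul_left_cancel (mul_right_cancel this), ← hfP]
    exact ⟨_, rfl⟩
  have hPN : P ≤ N := Subgroup.le_normalizer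
  have hidx : P.relIndex N = 2 := by
    refine Subgroup.index_eq_two_iff.2 ⟨⟨n₀, hn₀N⟩, fun b => ?_⟩
    simp only [Subgroup.mem_subgroupOf, Subgroup.coe_mul]
    by_cases hb : (b : S) ∈ P
    · exact Or.inr ⟨hb, fun h => hn₀R (by simpa using P.mul_mem (P.inv_mem hb) h)⟩
    · exact Or.inl ⟨hoftwo _ b.2 _ hn₀N hb hn₀R, hb⟩
  -- normalise the exchanging element
  obtain ⟨n, hnN, hnP, α, hα, hgen⟩ : ∃ n ∈ N, n ∉ P ∧ ∃ α : MulAut W,
      (∀ w, f (α w) = n * f w * n⁻¹) ∧
      (Eqz (α wA) wB ∧ Eqz (α wB) wA ∧ Eqz (α wA') wB' ∧ Eqz (α wB') wA') := by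
    obtain ⟨α₀, hα₀⟩ := exists_alpha f hf n₀ (hmemN n₀ hn₀N)
    obtain ⟨n₁, hn₁N, hn₁P, α₁, hα₁, hz⟩ : ∃ n ∈ N, n ∉ P ∧ ∃ α : MulAut W,
        (∀ w, f (α w) = n * f w * n⁻¹) ∧ α wZ1 = wZ1 := by
      rcases map_wZ1 α₀ with hz | hz
      · exact ⟨n₀, hn₀N, hn₀R, α₀, hα₀, hz⟩
      · refine ⟨f wT * n₀, N.mul_mem (hPN (hfP ▸ ⟨wT, rfl⟩)) hn₀N, fun h => hn₀R ?_,
          MulAut.conj wT * α₀, fun w => ?_, ?_⟩
        · have hT : f wT ∈ P := hfP ▸ ⟨wT, rfl⟩
          simpa using P.mul_mem (P.inv_mem hT) h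
        · show f (wT * α₀ w * wT⁻¹) = _
          rw [map_mul, map_mul, map_inv, hα₀]; group
        · show wT * α₀ wZ1 * wT⁻¹ = wZ1
          rw [hz]; decide
    obtain ⟨sV, sV'⟩ := hswap n₁ hn₁P α₁ hα₁
    have hz' : α₁ wZ2 = wZ2 := map_wZ2 α₁ hz
    have hsurj : ∀ u, (inV' u = true → ∃ x, inV x = true ∧ α₁ x = u) ∧
        (inV u = true → ∃ x, inV' x = true ∧ α₁ x = u) := by
      intro u
      rcases dichotomy α₁⁻¹ with ⟨h1, -⟩ | ⟨h1, h2'⟩
      · have h3 := sV _ (h1 wA (by decide))
        rw [MulAut.apply_inv_self] at h3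
        exact absurd h3 (by decide)
      · exact ⟨fun hu => ⟨α₁⁻¹ u, h2' u hu, MulAut.apply_inv_self _ _ _⟩,
          fun hu => ⟨α₁⁻¹ u, h1 u hu, MulAut.apply_inv_self _ _ _⟩⟩
    have hK : ∀ v, inK v = false → inK (α₁ v) = false := fun v hv => by
      rw [Bool.eq_false_iff] at hv ⊢
      exact fun h => hv ((inK_iff α₁ v).1 h)
    have move : ∀ (v z : W), α₁ z = z →
        ((∀ u : W, inV' u = true → (v * u) * (v * u) = 1 ∨ (v * u) * (v * u) = z) →
          ∀ u : W, inV u = true → (α₁ v * u) * (α₁ v * u) = 1 ∨ (α₁ v * u) * (α₁ v * u) = z) ∧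
        ((∀ u : W, inV u = true → (v * u) * (v * u) = 1 ∨ (v * u) * (v * u) = z) →
          ∀ u : W, inV' u = true → (α₁ v * u) * (α₁ v * u) = 1 ∨ (α₁ v * u) * (α₁ v * u) = z) := by
      intro v z hz
      constructor <;> intro h u hu
      · obtain ⟨x, hx, rfl⟩ := (hsurj u).2 hu
        rw [← map_mul, ← map_mul]
        rcases h x hx with e | e <;> rw [e]
        · exact Or.inl (map_one α₁)
        · exact Or.inr hz
      · obtain ⟨x, hx, rfl⟩ := (hsurj u).1 hu
        rw [← map_mul, ← map_mul]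
        rcases h x hx with e | e <;> rw [e]
        · exact Or.inl (map_one α₁)
        · exact Or.inr hz
    have h1 := (side1' (α₁ wA)).1 ⟨sV _ (by decide), hK _ (by decide),
      (move wA wZ1 hz).1 ((side1 wA).2 (by decide)).2.2⟩
    have h2a := (side2' (α₁ wA')).1 ⟨sV _ (by decide), hK _ (by decide),
      (move wA' wZ2 hz').1 ((side2 wA').2 (by decide)).2.2⟩
    have h3 := (side1 (α₁ wB)).1 ⟨sV' _ (by decide), hK _ (by decide),
      (move wB wZ1 hz).2 ((side1' wB).2 (by decide)).2.2⟩
    have h4 := (side2 (α₁ wB')).1 ⟨sV' _ (by decide), hK _ (by decide),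
      (move wB' wZ2 hz').2 ((side2' wB').2 (by decide)).2.2⟩
    obtain ⟨d, e1, e2, e3, e4⟩ := adjust _ _ _ _ h1 h3 h2a h4
    simp only [← mul_assoc (G := W) wB wB, ← mul_assoc (G := W) wA wA, ← mul_assoc (G := W) wB' wB',
      ← mul_assoc (G := W) wA' wA', show wB * wB = 1 by decide, show wA * wA = 1 by decide,
      show wB' * wB' = 1 by decide, show wA' * wA' = 1 by decide, one_mul] at e1 e2 e3 e4
    have hdP : f (SemidirectProduct.inl d) ∈ P := hfP ▸ ⟨_, rfl⟩
    refine ⟨f (SemidirectProduct.inl d) * n₁, N.mul_mem (hPN hdP) hn₁N,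
      fun h => hn₁P (by simpa using P.mul_mem (P.inv_mem hdP) h),
      MulAut.conj (SemidirectProduct.inl d : W) * α₁, fun w => ?_, e1, e2, e3, e4⟩
    show f (SemidirectProduct.inl d * α₁ w * (SemidirectProduct.inl d : W)⁻¹) = _
    rw [map_mul, map_mul, map_inv, hα₁]; group
  obtain ⟨g1, g2, g3, g4⟩ := hgen
  have tr : ∀ x y : W, wT * x * wT⁻¹ = y → α wT * α x * (α wT)⁻¹ = α y := fun x y h => by
    rw [← map_inv, ← map_mul, ← map_mul, h]
  have gT : Eqz (α wT) wT := image_tau (α wA) (α wB) (α wA') (α wB') g1 g2 g3 g4 (α wT)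
    (by rw [← map_mul, show wT * wT = 1 by decide, map_one])
    (tr _ _ (by decide)) (tr _ _ (by decide)) (tr _ _ (by decide)) (tr _ _ (by decide))
  -- the square of `n` is central
  have hn2 : n * n = 1 ∨ n * n = f wZ := by
    obtain ⟨p, hp⟩ := (hfP ▸ hoftwo n hnN n hnN hnP hnP : n * n ∈ f.range)
    have hpp : ∀ w, p * w * p⁻¹ = α (α w) := fun w => hf (by
      rw [map_mul, map_mul, map_inv, hp, hα, hα]; group)
    have hT2 : α (α wT) = wT := by
      rcases gT with e | e
      · rw [e, e]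
      · rw [e, map_mul, map_wZ, e, mul_assoc, show wZ * wZ = 1 by decide, mul_one]
    have hpT : p * wT = wT * p := by
      have := hpp wT
      rw [hT2] at this
      exact mul_inv_eq_iff_eq_mul.1 this
    rcases cent_mod p hpT (hpp wA ▸ eqz_trans (eqz_map α g1) g2)
      (hpp wB ▸ eqz_trans (eqz_map α g2) g1) (hpp wA' ▸ eqz_trans (eqz_map α g3) g4)
      (hpp wB' ▸ eqz_trans (eqz_map α g4) g3) with rfl | rfl
    · left; rw [← hp, map_one]
    · right; exact hp.symm
  -- the quotient
  have hZnorm : ((Subgroup.center S).subgroupOf N).Normal := inferInstance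
  refine ⟨hcenP, hZ2, hidx, hZnorm, ?_⟩
  set Z := (Subgroup.center S).subgroupOf N with hZ
  let q := QuotientGroup.mk' Z
  let fN : W →* N := f.codRestrict N fun w => hPN (hfP ▸ ⟨w, rfl⟩)
  let nb : N ⧸ Z := q ⟨n, hnN⟩
  have hzq : q (fN wZ) = 1 := by
    refine (QuotientGroup.eq_one_iff _).2 (Subgroup.mem_subgroupOf.2 ?_)
    show f wZ ∈ Subgroup.center S
    rw [← SetLike.mem_coe, hC]; exact Or.inr rfl
  have hnb : nb * nb = 1 := by
    show q _ * q _ = 1
    rw [← map_mul]
    refine (QuotientGroup.eq_one_iff _).2 (Subgroup.mem_subgroupOf.2 ?_)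
    show n * n ∈ Subgroup.center S
    rw [← SetLike.mem_coe, hC]; exact hn2
  have hqe : ∀ v w, Eqz v w → q (fN v) = q (fN w) := fun v w h => by
    rcases h with rfl | rfl
    · rfl
    · rw [map_mul, map_mul, hzq, mul_one]
  have hconj : (q.comp fN).comp flipW.toMonoidHom = (MulAut.conj nb).toMonoidHom.comp (q.comp fN) := by
    have hh : ∀ w, nb * q (fN w) * nb⁻¹ = q (fN (α w)) := fun w => by
      show q _ * q _ * (q _)⁻¹ = _
      rw [← map_inv, ← map_mul, ← map_mul]
      exact congrArg q (Subtype.ext (hα w).symm)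
    obtain ⟨fa, fb, fa', fb', ft, -⟩ := flipW_gens
    apply hom_ext
    · show q (fN (flipW wA)) = nb * q (fN wA) * nb⁻¹
      rw [hh, fa, hqe _ _ g1]
    · show q (fN (flipW wB)) = nb * q (fN wB) * nb⁻¹
      rw [hh, fb, hqe _ _ g2]
    · show q (fN (flipW wT)) = nb * q (fN wT) * nb⁻¹
      rw [hh, ft, hqe _ _ gT]
  let ρ : MM →* N ⧸ Z := SemidirectProduct.lift (q.comp fN) (involHom nb hnb) fun x => by
    rcases flip_compat_gen x with rfl | rfl
    · refine MonoidHom.ext fun w => ?_
      simp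
    · rw [involHom_gen, involHom_gen]
      exact hconj
  have hTriv : ∀ u, Triv u → ρ u = 1 := fun u hu => by
    rcases hu with rfl | rfl
    · exact map_one ρ
    · rw [mZ, SemidirectProduct.lift_inl]; exact hzq
  have hcom : ∀ a b : MM, Triv (a * b * (b * a)⁻¹) → Commute (ρ a) (ρ b) := fun a b h => by
    have := hTriv _ h
    rw [map_mul, map_inv, mul_inv_eq_one, map_mul, map_mul] at this
    exact this
  obtain ⟨g, gA, gB, gTT⟩ := exists_hom (ρ mX) (ρ mY) (ρ mT) (by rw [← map_mul]; exact hTriv _ mm_r1)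
    (by rw [← map_mul]; exact hTriv _ mm_r2) (by rw [← map_mul]; exact hTriv _ mm_r3)
    (by rw [← map_mul, ← map_pow]; exact hTriv _ mm_r4)
    (by rw [← map_mul, ← map_mul]; exact hcom _ _ mm_r5) (by rw [← map_mul, ← map_mul]; exact hcom _ _ mm_r6)
    (by rw [← map_mul, ← map_mul]; exact hcom _ _ mm_r7) (by rw [← map_mul, ← map_mul]; exact hcom _ _ mm_r8)
  have hX : ρ mX ∈ g.range := ⟨wA, gA⟩
  have hY : ρ mY ∈ g.range := ⟨wB, gB⟩
  have hT : ρ mT ∈ g.range := ⟨wT, gTT⟩
  have hword : ∀ a b : MM, Triv (a⁻¹ * b) → ρ b ∈ g.range → ρ a ∈ g.range := fun a b h hb => by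
    have := hTriv _ h
    rw [map_mul, map_inv, inv_mul_eq_one] at this
    rwa [this]
  have hA' : q (fN wA) ∈ g.range := by
    have := hword _ _ mm_w1 (by simp only [map_mul]; exact mul_mem (mul_mem (mul_mem (mul_mem (mul_mem (mul_mem hX hY) hX) hT) hX) hY) hX)
    rwa [SemidirectProduct.lift_inl] at this
  have hB' : q (fN wB) ∈ g.range := by
    have := hword _ _ mm_w2 (by simp only [map_mul]; exact mul_mem (mul_mem hX hT) hX)
    rwa [SemidirectProduct.lift_inl] at this
  have hT' : q (fN wT) ∈ g.range := by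
    have := hword _ _ mm_w3 hX
    rwa [SemidirectProduct.lift_inl] at this
  have hN' : nb ∈ g.range := by
    have := hword _ _ mm_w4 (by simp only [map_mul]; exact mul_mem (mul_mem (mul_mem (mul_mem (mul_mem hX hT) hX) hY) hX) hT)
    rwa [mN, SemidirectProduct.lift_inr, involHom_gen] at this
  have hW : ∀ w, q (fN w) ∈ g.range := fun w => by
    obtain ⟨i, j, k, l, e, rfl⟩ := gen_form w
    simp only [map_mul, map_pow]
    repeat' first | apply mul_mem | apply pow_mem
    all_goals assumption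
  have hsurj : Function.Surjective g := by
    intro y
    obtain ⟨⟨x, hx⟩, rfl⟩ := QuotientGroup.mk_surjective y
    by_cases hxP : x ∈ P
    · obtain ⟨w, hw⟩ := (hfP ▸ hxP : x ∈ f.range)
      obtain ⟨v, hv⟩ := hW w
      exact ⟨v, hv.trans (congrArg q (Subtype.ext hw))⟩
    · obtain ⟨w, hw⟩ := (hfP ▸ hoftwo x hx n hnN hxP hnP : x * n ∈ f.range)
      have hm : q (fN w) * nb⁻¹ ∈ g.range := mul_mem (hW w) (inv_mem hN')
      obtain ⟨v, hv⟩ := hm
      refine ⟨v, hv.trans ?_⟩
      show q _ * (q _)⁻¹ = q _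
      rw [← map_inv, ← map_mul]
      refine congrArg q (Subtype.ext ?_)
      show f w * n⁻¹ = x
      rw [hw]; group
  have hcard : Nat.card (N ⧸ Z) = 128 := by
    have h1 := Subgroup.card_eq_card_quotient_mul_card_subgroup Z
    have hZle : Subgroup.center S ≤ N := fun c hc => by
      have : c ∈ P := by
        rw [hcenP] at hc
        obtain ⟨d, -, rfl⟩ := hc
        exact d.2
      exact hPN this
    rw [Nat.card_congr (Subgroup.subgroupOfEquivOfLe hZle).toEquiv, hZ2] at h1
    have h3 := Subgroup.card_mul_index (P.subgroupOf N)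
    rw [show (P.subgroupOf N).index = 2 from hidx,
      Nat.card_congr (Subgroup.subgroupOfEquivOfLe hPN).toEquiv, ← hfP,
      ← Nat.card_congr (MonoidHom.ofInjective hf).toEquiv, card_W] at h3
    omega
  have hbij : Function.Bijective g :=
    (Nat.bijective_iff_surjective_and_card g).2 ⟨hsurj, by rw [card_W, hcard]⟩
  obtain ⟨e⟩ := sylow_equiv T
  exact ⟨(MulEquiv.ofBijective g hbij).symm.trans e⟩

include hr h2 in
/-- A normal elementary abelian subgroup of order sixteen is self-normalizing up to the copy. -/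
theorem normalizer_eq (f : W →* S) (hf : Function.Injective f) (P : Subgroup S) (hfP : f.range = P)
    (V : Subgroup S) (hVP : V ≤ P) (hVn : ∀ g ∈ P, ∀ v ∈ V, g * v * g⁻¹ ∈ V)
    (hab : ∀ a ∈ V, ∀ b ∈ V, a * b = b * a) (hsq : ∀ a ∈ V, a * a = 1) (hc : Nat.card V = 16) :
    Subgroup.normalizer (V : Set S) = P := by
  have hgood : ∀ w ∈ V.comap f, inV w = true ∨ inV' w = true := fun w hw => by
    refine (good_iff w).1 ⟨hf ?_, fun x => hf ?_⟩
    · rw [map_mul, map_one]; exact hsq _ hw
    · have : f x * f w * (f x)⁻¹ ∈ V := hVn _ (hfP ▸ ⟨x, rfl⟩) _ hw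
      simp only [map_mul, map_inv]
      exact hab _ this _ hw
  have hmap : (V.comap f).map f = V := Subgroup.map_comap_eq_self (hfP ▸ hVP)
  have hcc : Nat.card (V.comap f) = 16 := by
    exact ((Subgroup.card_map_of_injective hf).symm.trans (by rw [hmap])).trans hc
  have hV16 : Nat.card VV = 16 := by
    show Nat.card {w : W // inV w = true} = 16
    rw [Nat.card_eq_fintype_card]; decide +kernel
  have hV16' : Nat.card VV' = 16 := by
    show Nat.card {w : W // inV' w = true} = 16
    rw [Nat.card_eq_fintype_card]; decide +kernel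
  rcases le_or_le (A := VV) (B := VV') hgood with h | h
  · rw [← hmap, Subgroup.eq_of_le_of_card_ge h (by omega), normalizer_VV_le hr h2 f hf, hfP]
  · let f' : W →* S := f.comp flipW.toMonoidHom
    have hf' : Function.Injective f' := hf.comp flipW.injective
    have hr' : f'.range = P := by
      rw [← hfP]
      rw [MonoidHom.range_comp, MonoidHom.range_eq_top.2 flipW.surjective, ← MonoidHom.range_eq_map]
    have hmap' : VV'.map f = VV.map f' := by
      rw [← Subgroup.map_map]
      congr 1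
      ext w
      constructor
      · intro hw
        refine ⟨flipW w, (flipW_V w).1.trans hw, ?_⟩
        exact congrArg (fun a : MulAut W => a w) flipW_sq
      · rintro ⟨v, hv, rfl⟩
        exact (flipW_V v).2.trans hv
    rw [← hmap, Subgroup.eq_of_le_of_card_ge h (by omega), hmap', normalizer_VV_le hr h2 f' hf', hr']

end Cfsg.Agent.WreathEight
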